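import Groth.Agent.Lib.ClProd85.Affine
import Groth.Agent.Lib.PicGen.Integral
import Groth.Agent.H52.FBase.GeomRedSch
import Groth.Agent.S2500

/-!
# Divisor classes of a product with a rational factor
-/

set_option autoImplicit false
set_option linter.style.haveILetI false
universe u

open CategoryTheory CategoryTheory.Limits AlgebraicGeometry IsLocalRing MonoidalCategory
  CartesianMonoidalCategory

namespace Groth.Agent.Lib.ClProd85

open Groth.Agent.Lib Groth.Agent.Lib.Cyc

variable {k : Type u} [Field k]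

section Imm

variable {Q P : Var k} (m : Q ⟶ P) [IsOpenImmersion m.left] [LocallyOfFiniteType Q.hom]
  [LocallyOfFiniteType P.hom]

theorem dk_map (w : Q.left) : dk P (m.left w) = dk Q w := by
  obtain ⟨n, hn, hn'⟩ := deltaCompat m w
  change Residue.trdegAt m.left w = n at hn
  rw [FieldDim.trdegAt_eq_zero_of_surjective m.left _ (FieldDim.residueFieldMap_surjective (f := m.left) w)] at hn
  have : n = 0 := by exact_mod_cast hn.symm
  omega

variable [IsIntegral Q.left] [IsIntegral P.left]

theorem map_generic : m.left (genericPoint Q.left) = genericPoint P.left := by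
  have hne : (Set.range m.left).Nonempty := Set.range_nonempty _
  obtain ⟨w, hw⟩ := (genericPoint_spec P.left).mem_open_set_iff m.left.isOpenEmbedding.isOpen_range |>.2
    (by simpa using hne)
  have h := (genericPoint_specializes w).map m.left.continuous
  rw [hw] at h
  exact (h.antisymm (genericPoint_specializes _)).eq

theorem c1_map (w : Q.left) : C1 P (m.left w) ↔ C1 Q w := by
  unfold C1
  rw [← map_generic m, dk_map, dk_map]

theorem ordg_map {w : Q.left} (hw : C1 Q w) (g : P.left.residueField (genericPoint P.left)) :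
    ordg w (rfm m.left (map_generic m) g) = ordg (m.left w) g := by
  haveI := isLocallyNoetherian P; haveI := isLocallyNoetherian Q
  exact ordAt_rfm m.left (isDimFun P) (PP.OpenImm.isDimFun m.left (isDimFun P)) _ _ _
    (Eq.le ((c1_map m w).2 hw).symm) g

theorem exists_transport {R : Var k} (m' : Q ⟶ R) [IsOpenImmersion m'.left] [LocallyOfFiniteType R.hom]
    [IsIntegral R.left] (g' : R.left.residueField (genericPoint R.left)) (hg : g' ≠ 0) :
    ∃ g : P.left.residueField (genericPoint P.left), g ≠ 0 ∧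
      rfm m.left (map_generic m) g = rfm m'.left (map_generic m') g' := by
  obtain ⟨g, hg'⟩ := (rfm_bijective m.left (map_generic m)).2 (rfm m'.left (map_generic m') g')
  refine ⟨g, fun h0 => hg ?_, hg'⟩
  rw [h0, map_zero] at hg'
  exact (map_eq_zero_iff _ (RingHom.injective _)).1 hg'.symm

end Imm

section Product

variable [IsAlgClosed k]

theorem geomIntegral (Z : Var k) [IsIntegral Z.left] [LocallyOfFiniteType Z.hom] :
    GeometricallyIntegral Z.hom := by
  haveI : GeometricallyReduced Z.hom := Groth.Agent.H52.FBase.GeomRedSch.geometricallyReduced_of_perfectField Z.hom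
  haveI : GeometricallyIrreducible Z.hom := Groth.Agent.S2500.result Z.hom
  exact GeometricallyIntegral.of_geometricallyReduced_of_geometricallyIrreducible _

theorem isIntegral_prod (Z W : Var k) [IsIntegral Z.left] [IsIntegral W.left]
    [LocallyOfFiniteType Z.hom] [LocallyOfFiniteType W.hom] [QuasiCompact W.hom] :
    IsIntegral (Z ⊗ W).left := by
  haveI := geomIntegral W
  haveI : IsLocallyNoetherian Z.left := isLocallyNoetherian Z
  haveI : Flat W.hom := Groth.Agent.Lib.FibreDeg.Basic.flat_of_field W.hom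
  let p : (Z ⊗ W).left ⟶ Z.left := (fst Z W).left
  haveI : Flat p := inferInstanceAs (Flat (pullback.fst Z.hom W.hom))
  haveI : LocallyOfFiniteType p := inferInstanceAs (LocallyOfFiniteType (pullback.fst Z.hom W.hom))
  haveI : QuasiCompact p := inferInstanceAs (QuasiCompact (pullback.fst Z.hom W.hom))
  haveI : GeometricallyIntegral p := inferInstanceAs (GeometricallyIntegral (pullback.fst Z.hom W.hom))
  haveI : IsLocallyNoetherian (Z ⊗ W).left := LocallyOfFiniteType.isLocallyNoetherian p
  exact Groth.Agent.Lib.PicGen.Integral.isIntegral p fun x => inferInstance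

theorem lft_prod (Z W : Var k) [LocallyOfFiniteType Z.hom] [LocallyOfFiniteType W.hom] :
    LocallyOfFiniteType (Z ⊗ W).hom := by
  rw [Over.tensorObj_hom]; infer_instance

theorem compact_prod (Z W : Var k) [QuasiCompact Z.hom] [QuasiCompact W.hom] :
    CompactSpace (Z ⊗ W).left := by
  have : QuasiCompact (Z ⊗ W).hom := by rw [Over.tensorObj_hom]; infer_instance
  exact (quasiCompact_iff_compactSpace (Z ⊗ W).hom).mp inferInstance

/-- The square of the two projections. -/
noncomputable def mkSq (Z W : Var k) [IsIntegral Z.left] [IsIntegral W.left]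
    [LocallyOfFiniteType Z.hom] [LocallyOfFiniteType W.hom] [QuasiCompact W.hom] :
    Sq (Z ⊗ W) Z W where
  p := fst Z W
  q := snd Z W
  H := IsPullback.of_hasPullback Z.hom W.hom
  intP := isIntegral_prod Z W
  intZ := ‹_›
  intW := ‹_›
  lftP := lft_prod Z W
  lftZ := ‹_›
  lftW := ‹_›
  geoZ := geomIntegral Z
  geoW := geomIntegral W

variable {X Y U : Var k} (a : U ⟶ X)

theorem isPullback_whisker : IsPullback (fst U Y).left (a ▷ Y).left a.left (fst X Y).left := by
  refine IsPullback.of_bot ?_ (congrArg Over.Hom.left (whiskerRight_fst a Y)).symm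
    (IsPullback.of_hasPullback X.hom Y.hom)
  rw [show (a ▷ Y).left ≫ pullback.snd X.hom Y.hom = (snd U Y).left from
    congrArg Over.Hom.left (whiskerRight_snd a Y), Over.w a]
  exact IsPullback.of_hasPullback U.hom Y.hom

theorem isOpenImmersion_whisker [IsOpenImmersion a.left] : IsOpenImmersion (a ▷ Y).left :=
  MorphismProperty.of_isPullback (isPullback_whisker a) inferInstance

theorem exists_whisker_preimage {z : (X ⊗ Y).left} {u : U.left} (h : a.left u = (fst X Y).left z) :
    ∃ v : (U ⊗ Y).left, (a ▷ Y).left v = z ∧ (fst U Y).left v = u := by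
  obtain ⟨w, hw1, hw2⟩ := Scheme.Pullback.exists_preimage_pullback (f := a.left) (g := (fst X Y).left) u z h
  refine ⟨(isPullback_whisker a).isoPullback.inv w, ?_, ?_⟩
  · rw [← Scheme.Hom.comp_apply, (isPullback_whisker a).isoPullback_inv_snd]; exact hw2
  · rw [← Scheme.Hom.comp_apply, (isPullback_whisker a).isoPullback_inv_fst]; exact hw1

theorem whisker_fst (v : (U ⊗ Y).left) :
    (fst X Y).left ((a ▷ Y).left v) = a.left ((fst U Y).left v) := by
  rw [← Scheme.Hom.comp_apply, ← Scheme.Hom.comp_apply, ← Over.comp_left, ← Over.comp_left,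
    whiskerRight_fst]

theorem whisker_snd (v : (U ⊗ Y).left) : (snd X Y).left ((a ▷ Y).left v) = (snd U Y).left v := by
  rw [← Scheme.Hom.comp_apply, ← Over.comp_left, whiskerRight_snd]

end Product

section Birational

variable [IsAlgClosed k] {X Y U : Var k} {n : ℕ} (a : U ⟶ X) (b : U ⟶ AW k n)
  [IsOpenImmersion a.left] [IsOpenImmersion b.left]
  [IsIntegral X.left] [IsIntegral Y.left] [IsIntegral U.left]
  [LocallyOfFiniteType X.hom] [LocallyOfFiniteType Y.hom] [LocallyOfFiniteType U.hom] [QuasiCompact Y.hom]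

include a b in
/-- A prime divisor over both generic points is principal there. -/
theorem exists_div_over_generic (z : (X ⊗ Y).left) : haveI := isIntegral_prod X Y;
    C1 (X ⊗ Y) z → (fst X Y).left z = genericPoint X.left → (snd X Y).left z = genericPoint Y.left →
    ∃ g : (X ⊗ Y).left.residueField (genericPoint (X ⊗ Y).left), g ≠ 0 ∧
      ∀ w, C1 (X ⊗ Y) w → (fst X Y).left w = genericPoint X.left →
        (snd X Y).left w = genericPoint Y.left → ordg w g = Set.indicator {z} 1 w := by
  haveI := isIntegral_prod X Y; haveI := isIntegral_prod U Y; haveI := isIntegral_AW (k := k) n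
  haveI := lft_prod X Y; haveI := lft_prod U Y
  haveI : LocallyOfFiniteType (AW k n).hom :=
    inferInstanceAs (LocallyOfFiniteType (𝔸(ULift.{u} (Fin n); Spec (CommRingCat.of k)) ↘ Spec (CommRingCat.of k)))
  haveI := isIntegral_prod (AW k n) Y; haveI := lft_prod (AW k n) Y
  haveI : IsOpenImmersion (a ▷ Y).left := isOpenImmersion_whisker a
  haveI : IsOpenImmersion (b ▷ Y).left := isOpenImmersion_whisker b
  intro hz hzp hzq
  obtain ⟨v, rfl, -⟩ := exists_whisker_preimage (Y := Y) a (z := z) ((map_generic a).trans hzp.symm)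
  rw [c1_map] at hz
  rw [whisker_snd] at hzq
  obtain ⟨g', hg', hg''⟩ := exists_div_generic (mkSq (AW k n) Y) ((b ▷ Y).left v) ((c1_map _ _).2 hz)
    ((whisker_snd b v).trans hzq)
  obtain ⟨g, hg, hgg⟩ := exists_transport (a ▷ Y) (b ▷ Y) g' hg'
  refine ⟨g, hg, fun w hw hwp hwq => ?_⟩
  obtain ⟨x, rfl, -⟩ := exists_whisker_preimage (Y := Y) a (z := w) ((map_generic a).trans hwp.symm)
  rw [c1_map] at hw
  rw [whisker_snd] at hwq
  rw [← ordg_map (a ▷ Y) hw g, hgg, ordg_map (b ▷ Y) hw g',
    hg'' _ ((c1_map _ _).2 hw) ((whisker_snd b x).trans hwq)]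
  by_cases h : x = v
  · subst h; simp
  · rw [Set.indicator_of_notMem (s := ({(b ▷ Y).left v} : Set _))
        fun e => h ((b ▷ Y).left.isOpenEmbedding.injective (Set.mem_singleton_iff.1 e)),
      Set.indicator_of_notMem (s := ({(a ▷ Y).left v} : Set _))
        fun e => h ((a ▷ Y).left.isOpenEmbedding.injective (Set.mem_singleton_iff.1 e))]

include a b in
/-- Surjectivity: a divisor is a pullback up to a principal one. -/
theorem exists_decomp [QuasiCompact X.hom] : haveI := isIntegral_prod X Y;
    ∀ γ : (X ⊗ Y).left → ℤ, (Function.support γ).Finite → (∀ z, ¬ C1 (X ⊗ Y) z → γ z = 0) →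
    ∃ (G : (X ⊗ Y).left.residueField (genericPoint (X ⊗ Y).left)) (α : X.left → ℤ) (β : Y.left → ℤ),
      G ≠ 0 ∧ (Function.support α).Finite ∧ (Function.support β).Finite ∧
      (∀ x, ¬ C1 X x → α x = 0) ∧ (∀ y, ¬ C1 Y y → β y = 0) ∧
      ∀ z, γ z - Cyc.divFun (dk (X ⊗ Y)) (genericPoint (X ⊗ Y).left) G z =
        (mkSq X Y).pb α z + (mkSq X Y).flip.pb β z := by
  classical
  haveI := isIntegral_prod X Y; haveI := lft_prod X Y; haveI := compact_prod X Y
  intro γ hfin hγ
  let s := mkSq X Y
  let S : Finset (X ⊗ Y).left := hfin.toFinset.filter fun z =>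
    (fst X Y).left z = genericPoint X.left ∧ (snd X Y).left z = genericPoint Y.left
  have hS : ∀ z ∈ S, C1 (X ⊗ Y) z ∧ (fst X Y).left z = genericPoint X.left ∧
      (snd X Y).left z = genericPoint Y.left := fun z hz => by
    rw [Finset.mem_filter, Set.Finite.mem_toFinset] at hz
    exact ⟨by_contra fun h => hz.1 (hγ z h), hz.2⟩
  choose g hg hg' using fun z : S => exists_div_over_generic a b z.1 (hS z.1 z.2).1 (hS z.1 z.2).2.1 (hS z.1 z.2).2.2
  let G := ∏ z : S, g z ^ γ z.1
  have hG : G ≠ 0 := Finset.prod_ne_zero_iff.2 fun z _ => zpow_ne_zero _ (hg z)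
  let γ₁ : (X ⊗ Y).left → ℤ := fun z =>
    γ z - Cyc.divFun (dk (X ⊗ Y)) (genericPoint (X ⊗ Y).left) G z
  have h1 : ∀ z, ¬ C1 (X ⊗ Y) z → γ₁ z = 0 := fun z hz => by
    show γ z - _ = 0
    rw [hγ z hz, divFun_not_c1 _ hz, sub_zero]
  have hfin₁ : (Function.support γ₁).Finite :=
    (hfin.union (finite_support_ordg G)).subset (Function.support_sub _ _)
  have h2 : ∀ w, C1 (X ⊗ Y) w → (fst X Y).left w = genericPoint X.left →
      (snd X Y).left w = genericPoint Y.left → γ₁ w = 0 := by
    intro w hw hwp hwq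
    simp only [γ₁, divFun_c1 _ hw, G, ordg_prod _ hw _ fun z _ => zpow_ne_zero _ (hg z)]
    rw [sub_eq_zero]
    refine Eq.trans ?_ (Finset.sum_congr rfl fun z _ =>
      ((ordg_zpow hw _ (hg z) (γ z.1)).trans (by rw [hg' z w hw hwp hwq])).symm)
    by_cases h0 : γ w = 0
    · rw [h0]
      refine (Finset.sum_eq_zero fun z _ => ?_).symm
      by_cases e : w = z.1
      · rw [← e, h0, zero_mul]
      · rw [Set.indicator_of_notMem (s := ({z.1} : Set _)) e, mul_zero]
    · have hwS : w ∈ S := Finset.mem_filter.2 ⟨hfin.mem_toFinset.2 h0, hwp, hwq⟩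
      rw [Finset.sum_eq_single (⟨w, hwS⟩ : S)]
      · simp
      · intro z _ hne
        rw [Set.indicator_of_notMem (s := ({z.1} : Set _)) fun e => hne (Subtype.ext (Set.mem_singleton_iff.1 e).symm), mul_zero]
      · exact fun h => absurd (Finset.mem_univ _) h
  refine ⟨G, fun x => if C1 X x then γ₁ (s.gen x) else 0, fun y => if C1 Y y then γ₁ (s.flip.gen y) else 0,
    hG, ?_, ?_, fun x hx => if_neg hx, fun y hy => if_neg hy, fun z => ?_⟩
  · refine (hfin₁.image (fst X Y).left).subset fun x hx => ?_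
    simp only [Function.mem_support] at hx
    split_ifs at hx
    exacts [⟨_, hx, s.p_gen x⟩, absurd rfl hx]
  · refine (hfin₁.image (snd X Y).left).subset fun y hy => ?_
    simp only [Function.mem_support] at hy
    split_ifs at hy
    exacts [⟨_, hy, s.flip.p_gen y⟩, absurd rfl hy]
  · show γ₁ z = _
    set α : X.left → ℤ := fun x => if C1 X x then γ₁ (s.gen x) else 0
    set β : Y.left → ℤ := fun y => if C1 Y y then γ₁ (s.flip.gen y) else 0
    by_cases hz : C1 (X ⊗ Y) z
    · have hαη : α (genericPoint X.left) = 0 := if_neg fun h => h.ne rfl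
      have hβη : β (genericPoint Y.left) = 0 := if_neg fun h => h.ne rfl
      by_cases hp : (fst X Y).left z = genericPoint X.left
      · rw [s.pb_eq_zero α z (by show α ((fst X Y).left z) = 0; rw [hp]; exact hαη), zero_add]
        by_cases hq : (snd X Y).left z = genericPoint Y.left
        · rw [s.flip.pb_eq_zero β z (by show β ((snd X Y).left z) = 0; rw [hq]; exact hβη), h2 z hz hp hq]
        · obtain ⟨e, he⟩ := s.flip.c1_cases z hz hq
          conv_rhs => rw [e, s.flip.pb_gen]
          show γ₁ z = ite _ _ _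
          rw [if_pos he, ← e]
      · obtain ⟨e, he⟩ := s.c1_cases z hz hp
        have hq : (snd X Y).left z = genericPoint Y.left := by
          rw [e]; exact s.q_gen _
        rw [s.flip.pb_eq_zero β z (by show β ((snd X Y).left z) = 0; rw [hq]; exact hβη), add_zero]
        conv_rhs => rw [e, s.pb_gen]
        show γ₁ z = ite _ _ _
        rw [if_pos he, ← e]
    · rw [h1 z hz, s.pb_not_c1 α (fun x hx => if_neg hx) z hz,
        s.flip.pb_not_c1 β (fun y hy => if_neg hy) z hz, add_zero]

include a b in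
/-- Injectivity: a principal pullback comes from principal divisors. -/
theorem exists_div_of_decomp : haveI := isIntegral_prod X Y;
    ∀ (f : (X ⊗ Y).left.residueField (genericPoint (X ⊗ Y).left)) (α : X.left → ℤ) (β : Y.left → ℤ),
    f ≠ 0 → (∀ x, ¬ C1 X x → α x = 0) → (∀ y, ¬ C1 Y y → β y = 0) →
    (∀ z, (mkSq X Y).pb α z + (mkSq X Y).flip.pb β z =
      Cyc.divFun (dk (X ⊗ Y)) (genericPoint (X ⊗ Y).left) f z) →
    (∃ φ, φ ≠ 0 ∧ ∀ x, α x = Cyc.divFun (dk X) (genericPoint X.left) φ x) ∧
    (∃ c, c ≠ 0 ∧ ∀ y, β y = Cyc.divFun (dk Y) (genericPoint Y.left) c y) := by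
  classical
  haveI := isIntegral_prod X Y; haveI := isIntegral_prod U Y; haveI := isIntegral_AW (k := k) n
  haveI := lft_prod X Y; haveI := lft_prod U Y
  haveI : LocallyOfFiniteType (AW k n).hom :=
    inferInstanceAs (LocallyOfFiniteType (𝔸(ULift.{u} (Fin n); Spec (CommRingCat.of k)) ↘ Spec (CommRingCat.of k)))
  haveI : QuasiCompact (AW k n).hom :=
    inferInstanceAs (QuasiCompact (𝔸(ULift.{u} (Fin n); Spec (CommRingCat.of k)) ↘ Spec (CommRingCat.of k)))
  haveI := isIntegral_prod (AW k n) Y; haveI := lft_prod (AW k n) Y; haveI := compact_prod (AW k n) Y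
  haveI : CompactSpace (AW k n).left := (quasiCompact_iff_compactSpace (AW k n).hom).mp inferInstance
  haveI : IsOpenImmersion (a ▷ Y).left := isOpenImmersion_whisker a
  haveI : IsOpenImmersion (b ▷ Y).left := isOpenImmersion_whisker b
  intro f α β hf hα hβ heq
  let s := mkSq X Y
  let t := mkSq (AW k n) Y
  let r := mkSq U Y
  obtain ⟨f', hf', hff⟩ := exists_transport (b ▷ Y) (a ▷ Y) f hf
  let e : (AW k n).left → ℤ := fun x => ordg (t.gen x) f'
  let T : Finset (AW k n).left :=
    ((finite_support_ordg f').toFinset.image (fst (AW k n) Y).left).filter fun x => C1 (AW k n) x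
  choose φ hφ hφ' using fun x : T => exists_div_AW n x.1 (Finset.mem_filter.1 x.2).2
  let Φ := ∏ x : T, φ x ^ e x.1
  have hΦ : Φ ≠ 0 := Finset.prod_ne_zero_iff.2 fun x _ => zpow_ne_zero _ (hφ x)
  have hdivΦ : ∀ x, C1 (AW k n) x → ordg x Φ = e x := by
    intro x hx
    rw [ordg_prod _ hx _ fun y _ => zpow_ne_zero _ (hφ y),
      Finset.sum_congr rfl fun y _ => (ordg_zpow hx _ (hφ y) (e y.1)).trans
        (by rw [← divFun_c1 _ hx, hφ' y x])]
    by_cases h0 : e x = 0
    · rw [h0]
      refine Finset.sum_eq_zero fun y _ => ?_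
      by_cases h : x = y.1
      · rw [← h, h0, zero_mul]
      · rw [Set.indicator_of_notMem (s := ({y.1} : Set _)) h, mul_zero]
    · have hxT : x ∈ T := Finset.mem_filter.2 ⟨Finset.mem_image.2 ⟨t.gen x,
        (finite_support_ordg f').mem_toFinset.2 (by
          rw [Function.mem_support, divFun_c1 _ ((t.c1_gen_iff x).2 hx)]; exact h0), t.p_gen x⟩, hx⟩
      rw [Finset.sum_eq_single (⟨x, hxT⟩ : T)]
      · simp
      · intro y _ hne
        rw [Set.indicator_of_notMem (s := ({y.1} : Set _)) fun h => hne (Subtype.ext (Set.mem_singleton_iff.1 h).symm), mul_zero]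
      · exact fun h => absurd (Finset.mem_univ _) h
  let pΦ := rfm t.p.left t.p_generic Φ
  have hpΦ : pΦ ≠ 0 := (map_ne_zero_iff _ (RingHom.injective _)).2 hΦ
  have hzero : ∀ w, C1 (AW k n ⊗ Y) w → t.q.left w = genericPoint Y.left → ordg w (f' * pΦ⁻¹) = 0 := by
    intro w hw hwq
    rw [ordg_mul hw _ _ hf' (inv_ne_zero hpΦ), ordg_inv hw _ hpΦ, ← divFun_c1 pΦ hw,
      ← congrFun (t.pb_divFun Φ hΦ) w]
    by_cases hp : t.p.left w = genericPoint (AW k n).left
    · rw [t.pb_eq_zero _ w (by rw [hp]; exact divFun_not_c1 _ fun h => h.ne rfl), neg_zero, add_zero]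
      obtain ⟨v, rfl, hv⟩ := exists_whisker_preimage (Y := Y) b (z := w)
        ((map_generic b).trans hp.symm)
      rw [c1_map] at hw
      rw [← ordg_map (b ▷ Y) hw f', hff, ordg_map (a ▷ Y) hw f,
        ← divFun_c1 f ((c1_map _ _).2 hw), ← heq]
      have e1 : s.p.left ((a ▷ Y).left v) = genericPoint X.left := by
        show (fst X Y).left ((a ▷ Y).left v) = _
        rw [whisker_fst, hv, map_generic]
      have e2 : s.q.left ((a ▷ Y).left v) = genericPoint Y.left :=
        (whisker_snd a v).trans ((whisker_snd b v).symm.trans hwq)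
      rw [s.pb_eq_zero α _ (by rw [e1]; exact hα _ fun h => h.ne rfl),
        s.flip.pb_eq_zero β _ (by show β (s.q.left _) = 0; rw [e2]; exact hβ _ fun h => h.ne rfl), add_zero]
    · obtain ⟨e1, e2⟩ := t.c1_cases w hw hp
      rw [e1, t.pb_gen, divFun_c1 _ e2, hdivΦ _ e2]
      exact add_neg_cancel _
  obtain ⟨c, hc⟩ := exists_eq_rfm_q t (f' * pΦ⁻¹) (mul_ne_zero hf' (inv_ne_zero hpΦ)) hzero
  obtain ⟨φX, hφX, hφφ⟩ := exists_transport a b Φ hΦ
  have hc0 : c ≠ 0 := fun h => mul_ne_zero hf' (inv_ne_zero hpΦ) (by rw [hc, h, map_zero])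
  let pφ := rfm s.p.left s.p_generic φX
  let qc := rfm s.q.left s.flip.p_generic c
  have hpφ : pφ ≠ 0 := (map_ne_zero_iff _ (RingHom.injective _)).2 hφX
  have hqc : qc ≠ 0 := (map_ne_zero_iff _ (RingHom.injective _)).2 hc0
  have hfac : f = pφ * qc := by
    refine (rfm_bijective (a ▷ Y).left (map_generic (a ▷ Y))).1 ?_
    rw [map_mul, ← hff, show f' = pΦ * rfm t.q.left t.flip.p_generic c by
      rw [← hc, mul_left_comm, mul_inv_cancel₀ hpΦ, mul_one], map_mul]
    congr 1
    · show rfm _ _ (rfm _ _ Φ) = rfm _ _ (rfm _ _ φX)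
      have e1 : ∀ (g : (AW k n).left.residueField (genericPoint (AW k n).left)),
          rfm (b ▷ Y).left (map_generic (b ▷ Y)) (rfm t.p.left t.p_generic g) =
            rfm r.p.left r.p_generic (rfm b.left (map_generic b) g) := fun g => by
        rw [rfm_comp, rfm_comp]
        exact rfm_congr (congrArg Over.Hom.left (whiskerRight_fst b Y)) _ _ g
      have e2 : ∀ (g : X.left.residueField (genericPoint X.left)),
          rfm (a ▷ Y).left (map_generic (a ▷ Y)) (rfm s.p.left s.p_generic g) =
            rfm r.p.left r.p_generic (rfm a.left (map_generic a) g) := fun g => by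
        rw [rfm_comp, rfm_comp]
        exact rfm_congr (congrArg Over.Hom.left (whiskerRight_fst a Y)) _ _ g
      rw [e1, e2, hφφ]
    · show rfm _ _ (rfm _ _ c) = rfm _ _ (rfm _ _ c)
      rw [rfm_comp, rfm_comp]
      exact rfm_congr (congrArg Over.Hom.left ((whiskerRight_snd b Y).trans (whiskerRight_snd a Y).symm)) _ _ c
  have hsum : ∀ z, C1 (X ⊗ Y) z → s.pb α z + s.flip.pb β z =
      s.pb (Cyc.divFun (dk X) (genericPoint X.left) φX) z +
      s.flip.pb (Cyc.divFun (dk Y) (genericPoint Y.left) c) z := fun z hz => by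
    rw [heq z, congrFun (s.pb_divFun φX hφX) z, divFun_c1 _ hz, divFun_c1 _ hz, hfac,
      ordg_mul hz _ _ hpφ hqc]
    refine congrArg _ ?_
    rw [← divFun_c1 qc hz]
    exact (congrFun (s.flip.pb_divFun c hc0) z).symm
  refine ⟨⟨φX, hφX, fun x => ?_⟩, ⟨c, hc0, fun y => ?_⟩⟩
  · by_cases hx : C1 X x
    · have h := hsum (s.gen x) ((s.c1_gen_iff x).2 hx)
      rw [s.pb_gen, s.pb_gen] at h
      rw [s.flip.pb_eq_zero β _ (by show β (s.q.left _) = 0; rw [s.q_gen]; exact hβ _ fun h => h.ne rfl),
        s.flip.pb_eq_zero _ _ (by show Cyc.divFun _ _ _ (s.q.left _) = 0; rw [s.q_gen]; exact divFun_not_c1 _ fun h => h.ne rfl),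
        add_zero, add_zero] at h
      exact h
    · rw [hα x hx, divFun_not_c1 _ hx]
  · by_cases hy : C1 Y y
    · have h := hsum (s.flip.gen y) ((s.flip.c1_gen_iff y).2 hy)
      rw [s.flip.pb_gen, s.flip.pb_gen,
        s.pb_eq_zero α _ (by
          have := s.flip.q_gen y; change s.p.left _ = _ at this; rw [this]
          exact hα _ fun h => h.ne rfl),
        s.pb_eq_zero _ _ (by
          have := s.flip.q_gen y; change s.p.left _ = _ at this; rw [this]
          exact divFun_not_c1 _ fun h => h.ne rfl), zero_add, zero_add] at h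
      exact h
    · rw [hβ y hy, divFun_not_c1 _ hy]

end Birational

end Groth.Agent.Lib.ClProd85
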