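import Groth.Agent.Lib.Cyc.AffFib.Kill
import Mathlib.RingTheory.UniqueFactorizationDomain.Basic
import Mathlib.RingTheory.Polynomial.UniqueFactorization
import Mathlib.RingTheory.MvPolynomial.Homogeneous
import Mathlib.RingTheory.MvPolynomial.Ideal

/-!
# Rational functions without zeros or poles on a factorial affine scheme
-/

set_option autoImplicit false
set_option linter.style.haveILetI false
universe u

open CategoryTheory AlgebraicGeometry IsLocalRing

namespace Groth.Agent.Lib.ClProd85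

open Groth.Agent.Lib Groth.Agent.Lib.Cyc

variable {X : Scheme.{u}} [IsAffine X] [IsIntegral X] [IsLocallyNoetherian X]
  [UniqueFactorizationMonoid Γ(X, ⊤)] {δ : X → ℤ}

theorem exists_point_of_prime (hδ : Cyc.IsDimFun X δ) {p : Γ(X, ⊤)} (hp : Prime p) :
    ∃ z : X, δ z + 1 = δ (genericPoint X) ∧
      ∀ a : Γ(X, ⊤), IsUnit (X.presheaf.germ ⊤ z trivial a) ↔ ¬ p ∣ a := by
  have hU : IsAffineOpen (⊤ : X.Opens) := isAffineOpen_top X
  have hpr : (Ideal.span {p}).IsPrime := (Ideal.span_singleton_prime hp.ne_zero).2 hp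
  let Pp : PrimeSpectrum Γ(X, ⊤) := ⟨_, hpr⟩
  let z : X := hU.fromSpec Pp
  have hz : hU.primeIdealOf ⟨z, trivial⟩ = Pp :=
    hU.fromSpec.isEmbedding.injective (hU.fromSpec_primeIdealOf ⟨z, trivial⟩)
  have hgen : (hU.primeIdealOf ⟨genericPoint X, trivial⟩).asIdeal = ⊥ := by
    refine le_bot_iff.1 fun a ha => ?_
    let B : PrimeSpectrum Γ(X, ⊤) := ⟨⊥, Ideal.isPrime_bot⟩
    have e : hU.primeIdealOf ⟨hU.fromSpec B, trivial⟩ = B :=
      hU.fromSpec.isEmbedding.injective (hU.fromSpec_primeIdealOf ⟨_, trivial⟩)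
    have h1 := (FieldDim.primeIdealOf_le_iff hU (x := hU.fromSpec B) (y := genericPoint X) trivial trivial).2
      (genericPoint_specializes (hU.fromSpec B))
    rw [e] at h1
    exact h1 ha
  refine ⟨z, ?_, fun a => ?_⟩
  · have hne : genericPoint X ≠ z := fun e => hp.ne_zero <| by
      have h1 : p ∈ (hU.primeIdealOf ⟨z, trivial⟩).asIdeal := by
        rw [hz]; exact Ideal.mem_span_singleton_self p
      simp only [← e, hgen] at h1
      exact Ideal.mem_bot.1 h1
    refine ((hδ _ _ (genericPoint_specializes z) hne).2 fun w _ hwz => ?_).symm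
    have hle := (FieldDim.primeIdealOf_le_iff hU (x := z) (y := w) trivial trivial).2 hwz
    rw [hz] at hle
    by_cases h0 : (hU.primeIdealOf ⟨w, trivial⟩).asIdeal = ⊥
    · left
      have := congrArg hU.fromSpec (PrimeSpectrum.ext (h0.trans hgen.symm) :
        hU.primeIdealOf ⟨w, trivial⟩ = hU.primeIdealOf ⟨genericPoint X, trivial⟩)
      rwa [hU.fromSpec_primeIdealOf, hU.fromSpec_primeIdealOf] at this
    · right
      obtain ⟨q, hq, hqp⟩ := (hU.primeIdealOf ⟨w, trivial⟩).isPrime.exists_mem_prime_of_ne_bot h0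
      have hdvd : p ∣ q := Ideal.mem_span_singleton.1 (hle hq)
      have hass : Associated p q := hp.irreducible.associated_of_dvd hqp.irreducible hdvd
      have hge : Pp ≤ hU.primeIdealOf ⟨w, trivial⟩ := by
        intro a ha
        obtain ⟨c, rfl⟩ := (Ideal.mem_span_singleton.1 ha : p ∣ a)
        obtain ⟨v, hv⟩ := hass
        refine Ideal.mul_mem_right _ _ ?_
        exact ((hU.primeIdealOf ⟨w, trivial⟩).asIdeal.mul_unit_mem_iff_mem v.isUnit).1 (hv ▸ hq)
      have := congrArg hU.fromSpec (le_antisymm (α := PrimeSpectrum Γ(X, ⊤)) hle hge)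
      rwa [hU.fromSpec_primeIdealOf] at this
  · rw [← not_iff_not, not_not, ← Ideal.mem_span_singleton, show Ideal.span {p} = Pp.asIdeal from rfl,
      ← hz, FieldDim.mem_primeIdealOf_iff hU trivial a]
    exact ((IsLocalRing.residue_eq_zero_iff _).trans (mem_maximalIdeal _)).symm

theorem ordAt_germ_pos (hδ : Cyc.IsDimFun X δ) {z : X} (hz : δ z + 1 = δ (genericPoint X))
    {a : Γ(X, ⊤)} (ha : ¬ IsUnit (X.presheaf.germ ⊤ z trivial a))
    (h0 : X.evaluation ⊤ (genericPoint X) trivial a ≠ 0) :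
    0 < Cyc.ordAt z (genericPoint X) (genericPoint_specializes z)
      (X.evaluation ⊤ (genericPoint X) trivial a) := by
  have hs := genericPoint_specializes z
  rw [← Ord.specMap_germ ⊤ z _ hs trivial a] at h0 ⊢
  rw [Ord.ordAt_specMap hδ z _ hs (Eq.le hz.symm) _ h0]
  set R := Cyc.LocQuot z (genericPoint X) hs
  set x : R := Ideal.Quotient.mk _ (X.presheaf.germ ⊤ z trivial a) with hx
  haveI : Ring.KrullDimLE 1 R := Ord.locQuot_krullDimLE_one hδ z _ hs (Eq.le hz.symm)
  have hfin : Ring.ord R x ≠ ⊤ := Ring.ord_ne_top (Ord.mk_mem_nonZeroDivisors z _ hs _ h0)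
  have hpos : Ring.ord R x ≠ 0 := by
    intro h
    have hsub : Subsingleton (R ⧸ Ideal.span {x}) := Module.length_eq_zero_iff.1 h
    rw [Ideal.Quotient.subsingleton_iff, Ideal.span_singleton_eq_top] at hsub
    exact ha ((isUnit_map_iff (Ideal.Quotient.mk (RingHom.ker (Cyc.specMap z (genericPoint X) hs))) _).1 hsub)
  obtain ⟨m, hm⟩ := ENat.ne_top_iff_exists.1 hfin
  rw [← hm] at hpos ⊢
  simp only [ne_eq, Nat.cast_eq_zero] at hpos
  simp only [ENat.toNat_coe, Nat.cast_pos]
  omega

/-- A rational function of order zero along all primes is a unit. -/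
theorem exists_unit_of_ordAt_eq_zero (hδ : Cyc.IsDimFun X δ)
    (h : X.residueField (genericPoint X)) (h0 : h ≠ 0)
    (hord : ∀ z, δ z + 1 = δ (genericPoint X) →
      Cyc.ordAt z (genericPoint X) (genericPoint_specializes z) h = 0) :
    ∃ a : Γ(X, ⊤), IsUnit a ∧ h = X.evaluation ⊤ (genericPoint X) trivial a := by
  have hU : IsAffineOpen (⊤ : X.Opens) := isAffineOpen_top X
  let ev := X.evaluation ⊤ (genericPoint X) trivial
  obtain ⟨a, b, hb, hab⟩ := Ord.exists_section_fraction ⊤ hU (genericPoint X) trivial h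
  have ha : ev a ≠ 0 := by
    change ev b ≠ 0 at hb
    change h * ev b = ev a at hab
    rw [← hab]; exact mul_ne_zero h0 hb
  have ha0 : a ≠ 0 := fun e => ha (by rw [e]; exact map_zero _)
  obtain ⟨a', b', c, hrel, rfl, rfl⟩ := UniqueFactorizationMonoid.exists_reduced_factors a ha0 b
  have hca : ev c ≠ 0 ∧ ev a' ≠ 0 := by
    have : ev (c * a') = ev c * ev a' := map_mul ev.hom c a'
    rw [this] at ha
    exact mul_ne_zero_iff.1 ha
  have hcb : ev b' ≠ 0 := by
    have : ev (c * b') = ev c * ev b' := map_mul ev.hom c b'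
    intro h'
    exact hb (by show ev (c * b') = 0; rw [this, h', mul_zero])
  have hab' : h * ev b' = ev a' := by
    have e1 : ev (c * b') = ev c * ev b' := map_mul ev.hom c b'
    have e2 : ev (c * a') = ev c * ev a' := map_mul ev.hom c a'
    change h * ev (c * b') = ev (c * a') at hab
    rw [e1, e2, mul_left_comm] at hab
    exact mul_left_cancel₀ hca.1 hab
  have step : ∀ z, δ z + 1 = δ (genericPoint X) →
      Cyc.ordAt z (genericPoint X) (genericPoint_specializes z) (ev a') =
      Cyc.ordAt z (genericPoint X) (genericPoint_specializes z) (ev b') := fun z hz => by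
    rw [← hab', Ord.ordAt_mul hδ z _ _ (Eq.le hz.symm) _ _ h0 hcb, hord z hz, zero_add]
  have unit_of : ∀ e f : Γ(X, ⊤), (∀ z, δ z + 1 = δ (genericPoint X) →
      Cyc.ordAt z (genericPoint X) (genericPoint_specializes z) (ev e) =
      Cyc.ordAt z (genericPoint X) (genericPoint_specializes z) (ev f)) → IsRelPrime e f → ev e ≠ 0 →
      IsUnit e := by
    intro e f hst hrel' he
    by_contra hne
    have he0 : e ≠ 0 := fun h' => he (by rw [h']; exact map_zero _)
    obtain ⟨p, hp, hpe⟩ := WfDvdMonoid.exists_irreducible_factor hne he0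
    obtain ⟨z, hz, hzu⟩ := exists_point_of_prime hδ hp.prime
    have hpf : ¬ p ∣ f := fun hpf => hp.not_isUnit (hrel' hpe hpf)
    have h1 := ordAt_germ_pos hδ hz (a := e) (fun hu => (hzu e).1 hu hpe) he
    have h2 : Cyc.ordAt z (genericPoint X) (genericPoint_specializes z) (ev f) = 0 := by
      show Cyc.ordAt z (genericPoint X) (genericPoint_specializes z) (X.evaluation ⊤ (genericPoint X) trivial f) = 0
      rw [← Ord.specMap_germ ⊤ z _ (genericPoint_specializes z) trivial f,
        Ord.ordAt_specMap_of_isUnit hδ z _ _ (Eq.le hz.symm) _ ((hzu f).2 hpf)]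
    have := hst z hz
    change 0 < Cyc.ordAt z _ _ (ev e) at h1
    omega
  have hua : IsUnit a' := unit_of a' b' step (fun _ h1 h2 => hrel h1 h2) hca.2
  have hub : IsUnit b' := unit_of b' a' (fun z hz => (step z hz).symm) (fun _ h1 h2 => hrel h2 h1) hcb
  refine ⟨a' * ↑hub.unit⁻¹, hua.mul (Units.isUnit _), mul_right_cancel₀ hcb ?_⟩
  have : ev (a' * ↑hub.unit⁻¹) * ev b' = ev a' := by
    show ev.hom _ * ev.hom _ = ev.hom _
    rw [← map_mul, mul_assoc, IsUnit.val_inv_mul, mul_one]
  rw [this]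
  exact hab'

end Groth.Agent.Lib.ClProd85
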