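import Groth.Agent.Lib.ClProd85.Fibre
import Groth.Agent.Lib.ClProd85.UFD
import Mathlib.AlgebraicGeometry.AffineSpace

/-!
# Divisors on `𝔸ⁿ × Y` over the generic point of `Y`
-/

set_option autoImplicit false
set_option linter.style.haveILetI false
universe u

open CategoryTheory CategoryTheory.Limits AlgebraicGeometry IsLocalRing

namespace Groth.Agent.Lib.ClProd85

open Groth.Agent.Lib Groth.Agent.Lib.Cyc

variable {k : Type u} [Field k]

/-- Affine space over `k`. -/
noncomputable abbrev AW (k : Type u) [Field k] (n : ℕ) : Var k :=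
  Over.mk (𝔸(ULift.{u} (Fin n); Spec (CommRingCat.of k)) ↘ Spec (CommRingCat.of k))

/-- `Spec L[x₁,…,xₙ] ≅ 𝔸ⁿ_L`. -/
noncomputable def specMv (L : Type u) [Field L] (n : ℕ) :
    Spec (CommRingCat.of (MvPolynomial (Fin n) L)) ≅ 𝔸(ULift.{u} (Fin n); Spec (CommRingCat.of L)) :=
  Scheme.Spec.mapIso ((MvPolynomial.renameEquiv L (Equiv.ulift : ULift.{u} (Fin n) ≃ Fin n)).toRingEquiv.toCommRingCatIso.op) ≪≫
    (AffineSpace.SpecIso (ULift.{u} (Fin n)) (CommRingCat.of L)).symm

theorem specMv_over (L : Type u) [Field L] (n : ℕ) :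
    (specMv L n).hom ≫ 𝔸(ULift.{u} (Fin n); Spec (CommRingCat.of L)) ↘ Spec (CommRingCat.of L) =
      Spec.map (CommRingCat.ofHom (MvPolynomial.C : L →+* MvPolynomial (Fin n) L)) := by
  simp only [specMv, Iso.trans_hom, Iso.symm_hom, Category.assoc, AffineSpace.SpecIso_inv_over,
    Functor.mapIso_hom, Scheme.Spec_map, Iso.op_hom, Quiver.Hom.unop_op, ← Spec.map_comp]
  congr 1
  ext c
  simp [MvPolynomial.rename_C]

theorem killsAll_affineSpace (L : Type u) [Field L] (n : ℕ) :
    haveI := LocallyOfFiniteType.isLocallyNoetherian (𝔸(ULift.{u} (Fin n); Spec (CommRingCat.of L)) ↘ Spec (CommRingCat.of L))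
    AffFib.Kill.KillsAll 𝔸(ULift.{u} (Fin n); Spec (CommRingCat.of L)) := by
  haveI := LocallyOfFiniteType.isLocallyNoetherian (𝔸(ULift.{u} (Fin n); Spec (CommRingCat.of L)) ↘ Spec (CommRingCat.of L))
  exact (AffFib.Affine.killsAll_mvPolynomial L n).of_iso (specMv L n)

theorem isIntegral_AW (n : ℕ) : IsIntegral (AW k n).left :=
  have : IsIntegral (Spec (CommRingCat.of (MvPolynomial (Fin n) k))) := inferInstance
  have : Nonempty (AW k n).left :=
    ⟨(specMv k n).hom (genericPoint (Spec (CommRingCat.of (MvPolynomial (Fin n) k))))⟩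
  isIntegral_of_isOpenImmersion (specMv k n).inv

/-- On affine space every prime divisor is principal. -/
theorem exists_div_AW (n : ℕ) (x : (AW k n).left) : haveI := isIntegral_AW (k := k) n;
    C1 (AW k n) x → ∃ g : (AW k n).left.residueField (genericPoint (AW k n).left), g ≠ 0 ∧
      ∀ z, Cyc.divFun (dk (AW k n)) (genericPoint (AW k n).left) g z = Set.indicator {x} 1 z := by
  haveI := isIntegral_AW (k := k) n
  intro hx
  haveI : LocallyOfFiniteType (AW k n).hom :=
    inferInstanceAs (LocallyOfFiniteType (𝔸(ULift.{u} (Fin n); Spec (CommRingCat.of k)) ↘ Spec (CommRingCat.of k)))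
  haveI := isLocallyNoetherian (AW k n)
  haveI : CompactSpace (AW k n).left := (specMv k n).hom.homeomorph.compactSpace
  have hK : AffFib.Kill.KilledAt (dk (AW k n)) x := killsAll_affineSpace k n _ (isDimFun (AW k n)) x
    fun h => hx.ne (h _ (genericPoint_specializes x)).symm
  let α := finCycle (Z := AW k n) (Set.indicator {x} 1)
    ((Set.finite_singleton x).subset Set.support_indicator_subset)
  have hα : α ∈ Cyc.Zk (AW k n).left (dk (AW k n)) (dk (AW k n) (genericPoint (AW k n).left) - 1) := by
    intro z hz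
    refine Set.indicator_of_notMem (s := ({x} : Set _)) (fun e => hz ?_) _
    rw [Set.mem_singleton_iff.1 e]
    have := hx
    unfold C1 at this
    omega
  have h := AffFib.Affine.ratEquivZero_of_killedAt (isDimFun _) hα fun η hη => by
    have : η = x := by
      by_contra e
      exact hη (Set.indicator_of_notMem (s := ({x} : Set _)) e _)
    rw [this]; exact hK
  obtain ⟨g, hg, hg'⟩ := (ratEquivZero_iff (isDimFun _) α).1 h
  exact ⟨g, hg, fun z => (hg' z).symm⟩

variable {P Y : Var k} {n : ℕ} (s : Sq P (AW k n) Y)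

/-- The function field of `Y`. -/
noncomputable abbrev Sq.KY (s : Sq P (AW k n) Y) : Type u :=
  haveI := s.intW; (Y.left.residueField (genericPoint Y.left) : Type u)

/-- The generic fibre `Spec K(Y)[x] → 𝔸ⁿ × Y`. -/
theorem exists_genericFibre : haveI := s.intW; haveI := s.intP;
    ∃ e : Spec (CommRingCat.of (MvPolynomial (Fin n) s.KY)) ⟶ P.left,
      IsPullback e (Spec.map (CommRingCat.ofHom (MvPolynomial.C : s.KY →+* MvPolynomial (Fin n) s.KY)))
        s.q.left (Y.left.fromSpecResidueField (genericPoint Y.left)) ∧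
      IsPreimmersion e ∧
      e (genericPoint (Spec (CommRingCat.of (MvPolynomial (Fin n) s.KY)))) = genericPoint P.left ∧
      Cyc.IsDimFun (Spec (CommRingCat.of (MvPolynomial (Fin n) s.KY))) (fun a => dk P (e a)) := by
  haveI := s.intW; haveI := s.intP; haveI := s.lftP
  let σ := ULift.{u} (Fin n)
  let η := genericPoint Y.left
  have hA := AffineSpace.isPullback_map (n := σ) (Y.left.fromSpecResidueField η)
  have hY := AffineSpace.isPullback_map (n := σ) Y.hom
  let iso := hY.isoIsPullback _ _ s.H
  have hB : IsPullback iso.hom (𝔸(σ; Y.left) ↘ Y.left) s.q.left (𝟙 _) :=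
    IsPullback.of_horiz_isIso ⟨by rw [Category.comp_id]; exact IsPullback.isoIsPullback_hom_snd _ _ _ _⟩
  have hC : IsPullback (specMv s.KY n).hom
      (Spec.map (CommRingCat.ofHom (MvPolynomial.C : s.KY →+* MvPolynomial (Fin n) s.KY)))
      (𝔸(σ; Spec (CommRingCat.of s.KY)) ↘ Spec (CommRingCat.of s.KY)) (𝟙 _) :=
    IsPullback.of_horiz_isIso ⟨by rw [Category.comp_id, specMv_over]⟩
  have H := (hC.paste_horiz hA).paste_horiz hB
  simp only [Category.id_comp, Category.comp_id] at H
  refine ⟨_, H, AffFib.Fibre.isPreimmersion H, ?_, ?_⟩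
  all_goals
    set e := ((specMv s.KY n).hom ≫ AffineSpace.map σ (Y.left.fromSpecResidueField η)) ≫ iso.hom
    haveI : IsPreimmersion e := AffFib.Fibre.isPreimmersion H
    have hfe : ∀ a, s.q.left (e a) = η := fun a => by
      rw [← Scheme.Hom.comp_apply, H.w, Scheme.Hom.comp_apply]
      exact Scheme.fromSpecResidueField_apply _ _
    have hrange : ∀ x : P.left, s.q.left x = η → ∃ a, e a = x := fun x hx => by
      obtain ⟨w, hw, -⟩ := Scheme.Pullback.exists_preimage_pullback (f := s.q.left)
        (g := Y.left.fromSpecResidueField η) x (IsLocalRing.closedPoint _)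
        (hx.trans (Scheme.fromSpecResidueField_apply _ _).symm)
      refine ⟨H.isoPullback.inv w, ?_⟩
      rw [← hw, ← Scheme.Hom.comp_apply, H.isoPullback_inv_fst]
  · obtain ⟨w, hw⟩ := hrange (genericPoint P.left) s.flip.p_generic
    have h := (genericPoint_specializes w).map e.continuous
    rw [hw] at h
    exact (h.antisymm (genericPoint_specializes _)).eq
  · intro a b h hne
    obtain ⟨h1, h2⟩ := isDimFun P (e a) (e b) (h.map e.continuous)
      fun he => hne (e.isEmbedding.injective he)
    refine ⟨h1, fun Hab => h2 fun z haz hzb => ?_⟩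
    have hz : s.q.left z = η := by
      have s1 := haz.map s.q.left.continuous
      have s2 := hzb.map s.q.left.continuous
      rw [hfe] at s1 s2
      exact (s2.antisymm s1).eq
    obtain ⟨w, rfl⟩ := hrange z hz
    rcases Hab w (e.isEmbedding.isInducing.specializes_iff.1 haz)
        (e.isEmbedding.isInducing.specializes_iff.1 hzb) with rfl | rfl
    · exact Or.inl rfl
    · exact Or.inr rfl

/-- Prime divisors meeting the generic fibre are principal on it. -/
theorem exists_div_generic (z : P.left) : haveI := s.intW; haveI := s.intP;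
    C1 P z → s.q.left z = genericPoint Y.left →
    ∃ g : P.left.residueField (genericPoint P.left), g ≠ 0 ∧
      ∀ w, C1 P w → s.q.left w = genericPoint Y.left → ordg w g = Set.indicator {z} 1 w := by
  haveI := s.intW; haveI := s.intP; haveI := s.lftP; haveI := s.lftW
  haveI := isLocallyNoetherian P
  intro hz hq
  obtain ⟨e, H, he, hgen, -⟩ := exists_genericFibre s
  obtain ⟨ζ, hζ, -, -, -, hall⟩ := AffFib.Fibre.exists_gen H (AffFib.Affine.killsAll_mvPolynomial _ n)
    (isDimFun P) (genericPoint Y.left) (Scheme.fromSpecResidueField_apply _ _)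
  obtain ⟨ι, hι, ξ, g, hp, hs⟩ := (hall z hq).2 (by rw [hζ, hgen]; exact hz.ne)
  have hξ : ∀ i, ξ i = genericPoint P.left := fun i =>
    (DimFun.eq_of_specializes_of_le (isDimFun P) (genericPoint_specializes (ξ i))
      (by have := (hp i).2.1; have h1 := hz; unfold C1 at h1; omega)).symm
  let G : ι → P.left.residueField (genericPoint P.left) := fun i =>
    (P.left.residueFieldCongr (hξ i)).hom (g i)
  have hG : ∀ i, G i ≠ 0 := fun i h0 => (hp i).2.2 <|
    (map_eq_zero_iff _ (P.left.residueFieldCongr (hξ i)).hom.hom.injective).1 h0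
  have key : ∀ (a b : P.left) (h : a = b) (v : P.left.residueField a) (w : P.left),
      Cyc.divFun (dk P) a v w = Cyc.divFun (dk P) b ((P.left.residueFieldCongr h).hom v) w := by
    rintro a b rfl v w
    simp [Scheme.residueFieldCongr_refl]
  refine ⟨∏ i, G i, Finset.prod_ne_zero_iff.2 fun i _ => hG i, fun w hw hwq => ?_⟩
  rw [ordg_prod _ hw _ fun i _ => hG i, ← hs w (hwq.trans hq.symm)]
  exact Finset.sum_congr rfl fun i _ => ((key _ _ (hξ i) (g i) w).trans (divFun_c1 _ hw)).symm

/-- A function without zeros and poles on the generic fibre comes from `Y`. -/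
theorem exists_eq_rfm_q : haveI := s.intW; haveI := s.intP;
    ∀ h : P.left.residueField (genericPoint P.left), h ≠ 0 →
      (∀ w, C1 P w → s.q.left w = genericPoint Y.left → ordg w h = 0) →
      ∃ c : Y.left.residueField (genericPoint Y.left), h = rfm s.q.left s.flip.p_generic c := by
  haveI := s.intW; haveI := s.intP; haveI := s.lftP
  haveI := isLocallyNoetherian P
  intro h h0 hord
  obtain ⟨e, H, he, hgen, hF⟩ := exists_genericFibre s
  let F := Spec (CommRingCat.of (MvPolynomial (Fin n) s.KY))
  let sF : F ⟶ Spec (CommRingCat.of s.KY) :=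
    Spec.map (CommRingCat.ofHom (MvPolynomial.C : s.KY →+* MvPolynomial (Fin n) s.KY))
  haveI : UniqueFactorizationMonoid Γ(F, ⊤) :=
    (Scheme.ΓSpecIso (CommRingCat.of (MvPolynomial (Fin n) s.KY))).commRingCatIsoToRingEquiv.symm.toMulEquiv.uniqueFactorizationMonoid
      inferInstance
  obtain ⟨a, ha, hea⟩ := exists_unit_of_ordAt_eq_zero (X := F) hF (rfm e hgen h)
    ((map_ne_zero_iff _ (rfm_bijective e hgen).1).2 h0) (fun z hz => by
      have hc : C1 P (e z) := by
        show dk P (e z) + 1 = _
        rw [← hgen]; exact hz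
      have hqz : s.q.left (e z) = genericPoint Y.left := by
        rw [← Scheme.Hom.comp_apply, H.w, Scheme.Hom.comp_apply]
        exact Scheme.fromSpecResidueField_apply _ _
      rw [ordAt_rfm e (isDimFun P) hF hgen (genericPoint_specializes z)
        (genericPoint_specializes (e z)) (Eq.le hc.symm) h]
      exact hord (e z) hc hqz)
  obtain ⟨c, -, hc⟩ := MvPolynomial.isUnit_iff_eq_C_of_isReduced.1
    (ha.map (Scheme.ΓSpecIso (CommRingCat.of (MvPolynomial (Fin n) s.KY))).hom.hom)
  have hac : a = sF.appTop ((Scheme.ΓSpecIso (CommRingCat.of s.KY)).inv c) := by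
    refine (ConcreteCategory.bijective_of_isIso
      (Scheme.ΓSpecIso (CommRingCat.of (MvPolynomial (Fin n) s.KY))).hom).1 ?_
    have e1 := ConcreteCategory.congr_hom (Scheme.ΓSpecIso_naturality
      (CommRingCat.ofHom (MvPolynomial.C : s.KY →+* MvPolynomial (Fin n) s.KY)))
      ((Scheme.ΓSpecIso (CommRingCat.of s.KY)).inv c)
    have e2 : (Scheme.ΓSpecIso (CommRingCat.of s.KY)).hom ((Scheme.ΓSpecIso (CommRingCat.of s.KY)).inv c) = c :=
      ConcreteCategory.congr_hom (Scheme.ΓSpecIso (CommRingCat.of s.KY)).inv_hom_id c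
    refine hc.trans ?_
    refine Eq.trans ?_ e1.symm
    exact congrArg _ e2.symm
  set d := (Spec (CommRingCat.of s.KY)).evaluation ⊤ (sF (genericPoint F)) trivial
    ((Scheme.ΓSpecIso (CommRingCat.of s.KY)).inv c)
  have hd : rfm e hgen h = rfm sF rfl d := by
    rw [hea, hac, rfm_rfl]
    exact (ConcreteCategory.congr_hom (Scheme.evaluation_naturality sF (V := ⊤) (genericPoint F) trivial)
      ((Scheme.ΓSpecIso (CommRingCat.of s.KY)).inv c)).symm
  have hι : Y.left.fromSpecResidueField (genericPoint Y.left) (sF (genericPoint F)) = genericPoint Y.left :=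
    Scheme.fromSpecResidueField_apply _ _
  obtain ⟨g, hg⟩ := (rfm_bijective (Y.left.fromSpecResidueField (genericPoint Y.left)) hι).2 d
  refine ⟨g, (rfm_bijective e hgen).1 ?_⟩
  rw [hd, ← hg, rfm_comp, rfm_comp]
  exact rfm_congr H.w.symm _ _ g

end Groth.Agent.Lib.ClProd85
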