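import Groth.Agent.Lib.ClProd85.Setup
import Groth.Agent.H19.IntMult.Diagonal
import Groth.Agent.Lib.FibreDeg.Basic

/-!
# The two projections of a product of varieties
-/

set_option autoImplicit false
set_option linter.style.haveILetI false
universe u

open CategoryTheory CategoryTheory.Limits AlgebraicGeometry IsLocalRing

namespace Groth.Agent.Lib.ClProd85

open Groth.Agent.Lib Groth.Agent.Lib.Cyc

variable {k : Type u} [Field k]

/-- A cartesian square of varieties with geometrically integral factors. -/
structure Sq (P Z W : Var k) where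
  p : P ⟶ Z
  q : P ⟶ W
  H : IsPullback p.left q.left Z.hom W.hom
  intP : IsIntegral P.left
  intZ : IsIntegral Z.left
  intW : IsIntegral W.left
  lftP : LocallyOfFiniteType P.hom
  lftZ : LocallyOfFiniteType Z.hom
  lftW : LocallyOfFiniteType W.hom
  geoZ : GeometricallyIntegral Z.hom
  geoW : GeometricallyIntegral W.hom

namespace Sq

variable {P Z W : Var k} (s : Sq P Z W)

/-- The square with the factors exchanged. -/
def flip : Sq P W Z where
  p := s.q
  q := s.p
  H := s.H.flip
  intP := s.intP
  intZ := s.intW
  intW := s.intZ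
  lftP := s.lftP
  lftZ := s.lftW
  lftW := s.lftZ
  geoZ := s.geoW
  geoW := s.geoZ

theorem lft_p : LocallyOfFiniteType s.p.left := haveI := s.lftP; lft_left s.p

theorem flat_p : Flat s.p.left :=
  haveI : Flat W.hom := Groth.Agent.Lib.FibreDeg.Basic.flat_of_field W.hom
  MorphismProperty.of_isPullback s.H.flip inferInstance

theorem geo_p : GeometricallyIntegral s.p.left :=
  haveI := s.geoW
  MorphismProperty.of_isPullback s.H.flip inferInstance

theorem fibLen_eq_one (x : Z.left) (a : s.p.left.fiber x) [IsIntegral (s.p.left.fiber x)]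
    (ha : a = genericPoint (s.p.left.fiber x : Scheme.{u})) :
    FibLen.fibLen s.p.left (s.p.left.fiberι x a) = 1 := by
  haveI := s.lftP; haveI := isLocallyNoetherian P
  subst ha
  set F : Scheme.{u} := s.p.left.fiber x
  let e : F ⟶ P.left := s.p.left.fiberι x
  have H : IsPullback e (s.p.left.fiberToSpecResidueField x) s.p.left (Z.left.fromSpecResidueField x) :=
    IsPullback.of_hasPullback _ _
  refine LimCyc.fibLen_eq_one s.p.left _ ?_
  have hsub : ∀ t : Spec (Z.left.residueField x), t = genericPoint (Spec (Z.left.residueField x) : Scheme.{u}) :=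
    fun t => Subsingleton.elim _ _
  have hz : IsField ((Spec (Z.left.residueField x)).presheaf.stalk
      (s.p.left.fiberToSpecResidueField x (genericPoint F))) := by
    rw [hsub (s.p.left.fiberToSpecResidueField x (genericPoint F))]
    exact Field.toIsField (Spec (Z.left.residueField x)).functionField
  rw [← H52.FBase.BCReducedStalk.ker_stalkMap H (genericPoint F) hz]
  haveI : IsPreimmersion e := inferInstance
  haveI : (RingHom.ker (e.stalkMap (genericPoint F)).hom).IsMaximal :=
    RingHom.ker_isMaximal_of_surjective (K := F.functionField) (e.stalkMap (genericPoint F)).hom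
      (e.stalkMap_surjective _)
  exact IsLocalRing.eq_maximalIdeal inferInstance

theorem exists_gen (x : Z.left) :
    ∃ ζ : P.left, s.p.left ζ = x ∧ (∀ z, s.p.left z = x → ζ ⤳ z) ∧ FibLen.fibLen s.p.left ζ = 1 := by
  haveI := s.geo_p
  haveI : IsIntegral (s.p.left.fiber x) := inferInstance
  refine ⟨s.p.left.fiberι x (genericPoint (s.p.left.fiber x : Scheme.{u})), FieldDim.apply_fiberι _ _ _,
    fun z hz => ?_, s.fibLen_eq_one x _ rfl⟩
  obtain ⟨w, rfl⟩ := FieldDim.exists_fiberι_eq s.p.left z x hz
  exact (genericPoint_specializes w).map (s.p.left.fiberι x).continuous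

/-- The generic point of the fibre over `x`. -/
noncomputable def gen (x : Z.left) : P.left := (s.exists_gen x).choose

theorem p_gen (x : Z.left) : s.p.left (s.gen x) = x := (s.exists_gen x).choose_spec.1

theorem gen_specializes (z : P.left) : s.gen (s.p.left z) ⤳ z :=
  (s.exists_gen _).choose_spec.2.1 z rfl

theorem fibLen_gen (x : Z.left) : FibLen.fibLen s.p.left (s.gen x) = 1 :=
  (s.exists_gen x).choose_spec.2.2

theorem eq_gen_of_isMaxFib (z : P.left) (hz : FibLen.IsMaxFib s.p.left z) : z = s.gen (s.p.left z) :=
  (hz _ (s.p_gen _) (s.gen_specializes z)).symm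

theorem isMaxFib_gen (x : Z.left) : FibLen.IsMaxFib s.p.left (s.gen x) := fun y hy hyg => by
  have h1 := s.gen_specializes y
  rw [hy, s.p_gen] at h1
  exact (hyg.antisymm h1).eq

theorem hasRelDim : haveI := s.intW;
    Cyc.HasRelDim s.p.left (dk W (genericPoint W.left)).toNat := by
  haveI := s.intW; haveI := s.lftW; haveI := s.lft_p
  haveI : LocallyOfFiniteType W.hom := s.lftW
  have hW : Cyc.HasRelDim W.hom (dk W (genericPoint W.left)).toNat := by
    refine Groth.Agent.H19.IntMult.Diagonal.hasRelDim_irreducible W.hom ?_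
    rw [← (IsHomeomorph.topologicalKrullDim_eq _ (Homeomorph.Set.univ W.left).isHomeomorph),
      show (Set.univ : Set W.left) = closure {genericPoint W.left} from (genericPoint_spec W.left).symm]
    exact FieldDim.topologicalKrullDim_closure W.hom _
  exact Groth.Agent.H69.RelDimLocus.hasRelDim_of_forall _ fun x => by
    rw [Groth.Agent.H2.FibreDimPullback.fibreDimAt_of_isPullback s.H.flip x]
    exact Groth.Agent.H69.RelDimLocus.localDim_eq_of_hasRelDim W.hom hW _

/-- The relative dimension. -/
noncomputable def rd : ℤ := haveI := s.intW; dk W (genericPoint W.left)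

theorem shift : FP.Main.Shift s.p.left (dk P) (dk Z) s.rd := by
  haveI := s.intW; haveI := s.lftW; haveI := s.lftP; haveI := s.lftZ; haveI := s.lft_p; haveI := s.flat_p
  have h := FP.Main.shift_of_hasRelDim s.p.left s.hasRelDim (deltaCompat s.p)
  rwa [Int.toNat_of_nonneg (FieldDim.fdelta_nonneg W.hom _)] at h

theorem dk_gen (x : Z.left) : dk P (s.gen x) = dk Z x + s.rd := by
  have := s.shift (s.gen x) (s.isMaxFib_gen x)
  rwa [s.p_gen] at this

theorem dk_le (z : P.left) : dk P z ≤ dk Z (s.p.left z) + s.rd := by
  haveI := s.lftP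
  rw [← s.dk_gen]
  exact DimFun.le_of_specializes (isDimFun P) (s.gen_specializes z)

theorem eq_gen_of_dk (z : P.left) (h : dk Z (s.p.left z) + s.rd ≤ dk P z) :
    z = s.gen (s.p.left z) := by
  haveI := s.lftP
  refine (DimFun.eq_of_specializes_of_le (isDimFun P) (s.gen_specializes z) ?_).symm
  rw [s.dk_gen]
  exact h

theorem p_generic : haveI := s.intP; haveI := s.intZ;
    s.p.left (genericPoint P.left) = genericPoint Z.left := by
  haveI := s.intP; haveI := s.intZ
  have h := (genericPoint_specializes (s.gen (genericPoint Z.left))).map s.p.left.continuous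
  rw [s.p_gen] at h
  exact (h.antisymm (genericPoint_specializes _)).eq

theorem gen_generic : haveI := s.intP; haveI := s.intZ;
    s.gen (genericPoint Z.left) = genericPoint P.left := by
  haveI := s.intP; haveI := s.intZ
  have h := s.gen_specializes (genericPoint P.left)
  rw [s.p_generic] at h
  exact (h.antisymm (genericPoint_specializes _)).eq

theorem dk_generic : haveI := s.intP; haveI := s.intZ;
    dk P (genericPoint P.left) = dk Z (genericPoint Z.left) + s.rd := by
  haveI := s.intP; haveI := s.intZ
  rw [← s.gen_generic, s.dk_gen]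

/-- Every point of the fibre over a non-generic point of codimension one is generic there. -/
theorem c1_cases (z : P.left) : haveI := s.intP; haveI := s.intZ;
    C1 P z → s.p.left z ≠ genericPoint Z.left →
      z = s.gen (s.p.left z) ∧ C1 Z (s.p.left z) := by
  haveI := s.intP; haveI := s.intZ; haveI := s.lftZ; haveI := s.lftP
  intro hz hne
  have h1 := dk_lt hne
  have h2 := s.dk_le z
  have h3 := s.dk_generic
  unfold C1 at hz ⊢
  exact ⟨s.eq_gen_of_dk z (by omega), by omega⟩

theorem c1_gen_iff (x : Z.left) : haveI := s.intP; haveI := s.intZ;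
    C1 P (s.gen x) ↔ C1 Z x := by
  haveI := s.intP; haveI := s.intZ
  unfold C1
  rw [s.dk_gen, s.dk_generic]
  omega

theorem q_gen (x : Z.left) : haveI := s.intW;
    s.q.left (s.gen x) = genericPoint W.left := by
  haveI := s.intW
  obtain ⟨w, hw1, hw2⟩ := Scheme.Pullback.exists_preimage_pullback x (genericPoint W.left)
    (f := Z.hom) (g := W.hom) (Subsingleton.elim (α := PrimeSpectrum k) _ _)
  have e1 : s.p.left (s.H.isoPullback.inv w) = x := by
    rw [← Scheme.Hom.comp_apply, s.H.isoPullback_inv_fst]; exact hw1
  have e2 : s.q.left (s.H.isoPullback.inv w) = genericPoint W.left := by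
    rw [← Scheme.Hom.comp_apply, s.H.isoPullback_inv_snd]; exact hw2
  have h := s.gen_specializes (s.H.isoPullback.inv w)
  rw [e1] at h
  have h' := h.map s.q.left.continuous
  rw [e2] at h'
  exact (h'.antisymm (genericPoint_specializes _)).eq

/-- Flat pullback along `p` on coefficient functions. -/
noncomputable def pb (α : Z.left → ℤ) : P.left → ℤ := Cyc.pullFun s.p.left (dk P) (dk Z) s.rd α

theorem pb_gen (α : Z.left → ℤ) (x : Z.left) : s.pb α (s.gen x) = α x := by
  rw [pb, FibLen.pullFun_apply, s.p_gen, s.fibLen_gen, if_pos (s.dk_gen x)]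
  simp

theorem pb_of_ne (α : Z.left → ℤ) (z : P.left) (h : z ≠ s.gen (s.p.left z)) : s.pb α z = 0 := by
  rw [pb, FibLen.pullFun_apply, if_neg]
  exact fun e => h (s.eq_gen_of_dk z e.ge)

theorem pb_eq_zero (α : Z.left → ℤ) (z : P.left) (h : α (s.p.left z) = 0) : s.pb α z = 0 := by
  rw [pb, FibLen.pullFun_apply, h]
  simp

theorem pb_not_c1 (α : Z.left → ℤ) (hα : haveI := s.intZ; ∀ x, ¬ C1 Z x → α x = 0) (z : P.left)
    (h : haveI := s.intP; ¬ C1 P z) : s.pb α z = 0 := by
  haveI := s.intP; haveI := s.intZ
  by_cases e : z = s.gen (s.p.left z)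
  · rw [e, s.c1_gen_iff] at h
    exact s.pb_eq_zero α z (hα _ h)
  · exact s.pb_of_ne α z e

/-- `p^* div g = div p^* g`. -/
theorem pb_divFun : haveI := s.intP; haveI := s.intZ;
    ∀ (g : Z.left.residueField (genericPoint Z.left)), g ≠ 0 →
      s.pb (Cyc.divFun (dk Z) (genericPoint Z.left) g) =
        Cyc.divFun (dk P) (genericPoint P.left) (rfm s.p.left s.p_generic g) := by
  haveI := s.intP; haveI := s.intZ; haveI := s.lftZ; haveI := s.lftP
  haveI := s.flat_p; haveI := isLocallyNoetherian P; haveI := isLocallyNoetherian Z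
  have key : ∀ (y : Z.left) (e : s.p.left (genericPoint P.left) = y) (_ : y = genericPoint Z.left)
      (g : Z.left.residueField y), g ≠ 0 →
      s.pb (Cyc.divFun (dk Z) y g) = Cyc.divFun (dk P) (genericPoint P.left) (rfm s.p.left e g) := by
    rintro y rfl hy g hg
    funext z
    rw [rfm_rfl]
    refine FP.DivShift.pullFun_divFun_shift s.p.left (isDimFun P) (isDimFun Z) s.shift _ ?_ ?_ g hg z
    · have hmax : ∀ (T : Scheme.{u}) [IsIntegral T] (t : T), t = genericPoint T →
          IsLocalRing.maximalIdeal (T.presheaf.stalk t) = ⊥ := by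
        rintro T _ t rfl
        exact IsLocalRing.maximalIdeal_eq_bot (R := T.functionField)
      rw [hmax _ _ hy, hmax _ _ rfl, Ideal.map_bot]
    · intro w hw hwm
      rw [s.eq_gen_of_isMaxFib w hwm, hw, hy, s.gen_generic]
  exact fun g hg => key _ s.p_generic rfl g hg

end Sq

end Groth.Agent.Lib.ClProd85
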