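import Groth.Agent.Lib.Cyc.AffFib.Affine
import Groth.Agent.Lib.Cyc.FP.DivShift
import Groth.Agent.Lib.Cyc.C1

/-!
# Divisors of rational functions on integral schemes of finite type over a field

The dimension function is `trdeg_k κ(z)` throughout.
-/

set_option autoImplicit false
set_option linter.style.haveILetI false
universe u

open CategoryTheory CategoryTheory.Limits AlgebraicGeometry IsLocalRing

namespace Groth.Agent.Lib.ClProd85

open Groth.Agent.Lib Groth.Agent.Lib.Cyc

section Res

variable {X Y Z : Scheme.{u}}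

/-- The map of residue fields induced by `f` at `x`, target point given up to equality. -/
noncomputable def rfm (f : X ⟶ Y) {x : X} {y : Y} (h : f x = y) :
    Y.residueField y →+* X.residueField x :=
  (Y.residueFieldCongr h.symm).hom.hom |> (f.residueFieldMap x).hom.comp

theorem rfm_rfl (f : X ⟶ Y) (x : X) (a : Y.residueField (f x)) :
    rfm f (rfl : f x = f x) a = f.residueFieldMap x a := by
  simp [rfm, Scheme.residueFieldCongr_refl]

theorem rfm_comp (f : X ⟶ Y) (g : Y ⟶ Z) {x : X} {y : Y} {z : Z} (hf : f x = y) (hg : g y = z)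
    (a : Z.residueField z) :
    rfm f hf (rfm g hg a) = rfm (f ≫ g) (x := x) (y := z)
      ((Scheme.Hom.comp_apply f g x).trans ((congrArg g hf).trans hg)) a := by
  subst hf
  subst hg
  rw [rfm_rfl, rfm_rfl]
  refine Eq.trans ?_ (rfm_rfl (f ≫ g) x a).symm
  exact (ConcreteCategory.congr_hom (Scheme.residueFieldMap_comp f g x) a).symm

theorem rfm_congr {f g : X ⟶ Y} (e : f = g) {x : X} {y : Y} (hf : f x = y) (hg : g x = y)
    (a : Y.residueField y) : rfm f hf a = rfm g hg a := by
  subst e; rfl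

theorem rfm_bijective (f : X ⟶ Y) [IsPreimmersion f] {x : X} {y : Y} (h : f x = y) :
    Function.Bijective (rfm f h) := by
  subst h
  refine ⟨RingHom.injective _, fun b => ?_⟩
  obtain ⟨a, ha⟩ := FieldDim.residueFieldMap_surjective (f := f) x b
  exact ⟨a, (rfm_rfl f x a).trans ha⟩

/-- `ordAt` is insensitive to preimmersions. -/
theorem ordAt_rfm (i : X ⟶ Y) [IsPreimmersion i] [IsLocallyNoetherian X] [IsLocallyNoetherian Y]
    {δ : Y → ℤ} (hδ : Cyc.IsDimFun Y δ) (hδX : Cyc.IsDimFun X (fun a => δ (i a)))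
    {ζ d : X} {ζ' : Y} (h : i ζ = ζ') (hs : ζ ⤳ d) (hs' : ζ' ⤳ i d) (hd : δ ζ' ≤ δ (i d) + 1)
    (g : Y.residueField ζ') :
    Cyc.ordAt d ζ hs (rfm i h g) = Cyc.ordAt (i d) ζ' hs' g := by
  subst h
  rw [rfm_rfl]
  exact PP.OpenImm.ordAt_map i hδ hδX hs hd g

end Res

section Field

variable {k : Type u} [Field k]

/-- Schemes over `k`. -/
abbrev Var (k : Type u) [Field k] := Over (Spec (CommRingCat.of k))

/-- `trdeg_k κ(z)`. -/
noncomputable abbrev dk (Z : Var k) : Z.left → ℤ := FieldDim.fdelta Z.hom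

theorem isLocallyNoetherian (Z : Var k) [LocallyOfFiniteType Z.hom] : IsLocallyNoetherian Z.left :=
  LocallyOfFiniteType.isLocallyNoetherian Z.hom

theorem isDimFun (Z : Var k) [LocallyOfFiniteType Z.hom] : Cyc.IsDimFun Z.left (dk Z) :=
  FieldDim.isDimFun_fdelta Z.hom

theorem lft_left {Z Z' : Var k} (g : Z ⟶ Z') [LocallyOfFiniteType Z.hom] :
    LocallyOfFiniteType g.left := by
  have : LocallyOfFiniteType (g.left ≫ Z'.hom) := by rw [Over.w g]; infer_instance
  exact locallyOfFiniteType_of_comp g.left Z'.hom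

theorem deltaCompat {Z Z' : Var k} (g : Z ⟶ Z') [LocallyOfFiniteType Z.hom]
    [LocallyOfFiniteType Z'.hom] : Cyc.DeltaCompat g.left (dk Z) (dk Z') := by
  intro z
  have h := (Residue.trdegAt_comp g.left Z'.hom z).symm.trans (FieldDim.trdegAt_congr (Over.w g) z)
  rw [FieldDim.trdegAt_eq_fdelta Z'.hom, FieldDim.trdegAt_eq_fdelta Z.hom] at h
  have hfin : Residue.trdegAt g.left z < Cardinal.aleph0 := by
    refine lt_of_le_of_lt ?_ (Cardinal.natCast_lt_aleph0 (n := (FieldDim.fdelta Z.hom z).toNat))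
    rw [← h]
    exact self_le_add_left _ _
  obtain ⟨n, hn⟩ := Cardinal.lt_aleph0.1 hfin
  refine ⟨n, hn, ?_⟩
  rw [hn, ← Nat.cast_add, Nat.cast_inj] at h
  have := FieldDim.fdelta_nonneg Z.hom z
  have := FieldDim.fdelta_nonneg Z'.hom (g.left z)
  show FieldDim.fdelta Z.hom z = FieldDim.fdelta Z'.hom (g.left z) + n
  omega

variable (Z : Var k) [IsIntegral Z.left]

/-- Points of codimension one. -/
def C1 (z : Z.left) : Prop := dk Z z + 1 = dk Z (genericPoint Z.left)

variable {Z}

/-- The order of a rational function at a point. -/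
noncomputable def ordg (z : Z.left) (g : Z.left.residueField (genericPoint Z.left)) : ℤ :=
  Cyc.ordAt z (genericPoint Z.left) (genericPoint_specializes z) g

theorem C1.ne {z : Z.left} (h : C1 Z z) : z ≠ genericPoint Z.left := by
  rintro rfl
  simp [C1] at h

variable [LocallyOfFiniteType Z.hom]

theorem c1_iff {δ : Z.left → ℤ} (hδ : Cyc.IsDimFun Z.left δ) (z : Z.left) :
    C1 Z z ↔ δ z + 1 = δ (genericPoint Z.left) := by
  haveI := isLocallyNoetherian Z
  obtain ⟨c, rfl⟩ := AffFib.Kill.exists_eq_add (isDimFun Z) hδ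
  simp only [C1]
  omega

theorem dk_le (z : Z.left) : dk Z z ≤ dk Z (genericPoint Z.left) :=
  DimFun.le_of_specializes (isDimFun Z) (genericPoint_specializes z)

theorem dk_lt {z : Z.left} (h : z ≠ genericPoint Z.left) : dk Z z < dk Z (genericPoint Z.left) :=
  DimFun.lt_of_specializes (isDimFun Z) (genericPoint_specializes z) (Ne.symm h)

theorem divFun_eq (g : Z.left.residueField (genericPoint Z.left)) (z : Z.left) [Decidable (C1 Z z)] :
    Cyc.divFun (dk Z) (genericPoint Z.left) g z = if C1 Z z then ordg z g else 0 := by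
  rw [Cyc.divFun]
  by_cases h : C1 Z z
  · rw [dif_pos ⟨genericPoint_specializes z, h⟩, if_pos h]
    rfl
  · rw [dif_neg fun hc => h hc.2, if_neg h]

theorem divFun_c1 (g : Z.left.residueField (genericPoint Z.left)) {z : Z.left} (h : C1 Z z) :
    Cyc.divFun (dk Z) (genericPoint Z.left) g z = ordg z g := by
  classical
  rw [divFun_eq, if_pos h]

theorem divFun_not_c1 (g : Z.left.residueField (genericPoint Z.left)) {z : Z.left} (h : ¬ C1 Z z) :
    Cyc.divFun (dk Z) (genericPoint Z.left) g z = 0 := by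
  classical
  rw [divFun_eq, if_neg h]

theorem ordg_mul {z : Z.left} (hz : C1 Z z) (f g : Z.left.residueField (genericPoint Z.left))
    (hf : f ≠ 0) (hg : g ≠ 0) : ordg z (f * g) = ordg z f + ordg z g :=
  haveI := isLocallyNoetherian Z
  Ord.ordAt_mul (isDimFun Z) _ _ _ (Eq.le hz.symm) f g hf hg

theorem ordg_inv {z : Z.left} (hz : C1 Z z) (f : Z.left.residueField (genericPoint Z.left))
    (hf : f ≠ 0) : ordg z f⁻¹ = - ordg z f :=
  haveI := isLocallyNoetherian Z
  Ord.ordAt_inv (isDimFun Z) _ _ _ (Eq.le hz.symm) f hf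

theorem ordg_one {z : Z.left} (hz : C1 Z z) :
    ordg z (1 : Z.left.residueField (genericPoint Z.left)) = 0 :=
  haveI := isLocallyNoetherian Z
  Ord.ordAt_one (isDimFun Z) _ _ _ (Eq.le hz.symm)

theorem ordg_zpow {z : Z.left} (hz : C1 Z z) (f : Z.left.residueField (genericPoint Z.left))
    (hf : f ≠ 0) (n : ℤ) : ordg z (f ^ n) = n * ordg z f := by
  haveI := isLocallyNoetherian Z
  rw [← divFun_c1 _ hz, C1.divFun_zpow (isDimFun Z) _ f hf, Pi.smul_apply, divFun_c1 _ hz, smul_eq_mul]

theorem ordg_prod {ι : Type*} (s : Finset ι) {z : Z.left} (hz : C1 Z z)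
    (f : ι → Z.left.residueField (genericPoint Z.left)) (hf : ∀ i ∈ s, f i ≠ 0) :
    ordg z (∏ i ∈ s, f i) = ∑ i ∈ s, ordg z (f i) := by
  classical
  induction s using Finset.induction_on with
  | empty => simpa using ordg_one hz
  | insert a s ha ih =>
    have h1 : ∀ i ∈ s, f i ≠ 0 := fun i hi => hf i (Finset.mem_insert_of_mem hi)
    rw [Finset.prod_insert ha, Finset.sum_insert ha,
      ordg_mul hz _ _ (hf a (Finset.mem_insert_self _ _)) (Finset.prod_ne_zero_iff.2 h1), ih h1]

theorem finite_support_ordg [CompactSpace Z.left] (g : Z.left.residueField (genericPoint Z.left)) :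
    (Function.support (Cyc.divFun (dk Z) (genericPoint Z.left) g)).Finite := by
  haveI := isLocallyNoetherian Z
  choose U hU hxU hfin using fun x =>
    Ord.exists_open_finite_divFun (isDimFun Z) (genericPoint Z.left) g x
  obtain ⟨t, ht⟩ := isCompact_univ.elim_finite_subcover U hU fun x _ => Set.mem_iUnion.2 ⟨x, hxU x⟩
  refine (t.finite_toSet.biUnion fun x _ => hfin x).subset fun y hy => ?_
  obtain ⟨x, hx, hxy⟩ := Set.mem_iUnion₂.1 (ht (Set.mem_univ y))
  exact Set.mem_biUnion hx ⟨hxy, hy⟩

/-- A finitely supported function as a cycle. -/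
noncomputable def finCycle (f : Z.left → ℤ) (hf : (Function.support f).Finite) :
    AlgebraicCycle Z.left ℤ where
  toFun := f
  supportWithinDomain' := Set.subset_univ _
  supportLocallyFiniteWithinDomain' _ _ := ⟨Set.univ, Filter.univ_mem, hf.subset Set.inter_subset_right⟩

omit [LocallyOfFiniteType Z.hom] in
@[simp] theorem finCycle_apply (f : Z.left → ℤ) (hf : (Function.support f).Finite) (z : Z.left) :
    finCycle f hf z = f z := rfl

variable [CompactSpace Z.left]

theorem ratEquivZero_iff {δ : Z.left → ℤ} (hδ : Cyc.IsDimFun Z.left δ) (α : AlgebraicCycle Z.left ℤ) :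
    Cyc.RatEquivZero δ (δ (genericPoint Z.left) - 1) α ↔
      ∃ g : Z.left.residueField (genericPoint Z.left), g ≠ 0 ∧
        ∀ z, α z = Cyc.divFun (dk Z) (genericPoint Z.left) g z := by
  haveI := isLocallyNoetherian Z
  have hshift : ∀ (g : Z.left.residueField (genericPoint Z.left)) (z : Z.left),
      Cyc.divFun δ (genericPoint Z.left) g z = Cyc.divFun (dk Z) (genericPoint Z.left) g z := by
    intro g z
    obtain ⟨c, rfl⟩ := AffFib.Kill.exists_eq_add (isDimFun Z) hδ
    exact congrFun (AffFib.Kill.divFun_add_const (dk Z) c _ g) z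
  constructor
  · rintro ⟨ι, ξ, f, hξ, hf, hlf, hsum⟩
    have hgen : ∀ i, ξ i = genericPoint Z.left := fun i =>
      (DimFun.eq_of_specializes_of_le hδ (genericPoint_specializes (ξ i)) (by have := hξ i; omega)).symm
    haveI : Finite ι := by
      obtain ⟨U, hU, hgU, hfin⟩ := hlf (genericPoint Z.left)
      refine Set.finite_univ_iff.1 (hfin.subset fun i _ => ?_)
      exact ⟨ξ i, subset_closure rfl, (hgen i).symm ▸ hgU⟩
    haveI : Fintype ι := Fintype.ofFinite ι
    let G : ι → Z.left.residueField (genericPoint Z.left) := fun i =>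
      (Z.left.residueFieldCongr (hgen i)).hom (f i)
    have hG : ∀ i, G i ≠ 0 := fun i h0 => hf i <|
      (map_eq_zero_iff _ (Z.left.residueFieldCongr (hgen i)).hom.hom.injective).1 h0
    have hdiv : ∀ i z, Cyc.divFun δ (ξ i) (f i) z = Cyc.divFun δ (genericPoint Z.left) (G i) z := by
      intro i z
      have : ∀ (p q : Z.left) (e : p = q) (a : Z.left.residueField p),
          Cyc.divFun δ p a z = Cyc.divFun δ q ((Z.left.residueFieldCongr e).hom a) z := by
        rintro p q rfl a
        simp [Scheme.residueFieldCongr_refl]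
      exact this _ _ (hgen i) (f i)
    refine ⟨∏ i, G i, Finset.prod_ne_zero_iff.2 fun i _ => hG i, fun z => ?_⟩
    rw [hsum z, finsum_eq_sum_of_fintype]
    classical
    rw [Finset.sum_congr rfl fun i _ => (hdiv i z).trans (hshift _ z)]
    by_cases hz : C1 Z z
    · rw [divFun_c1 _ hz, ordg_prod _ hz _ fun i _ => hG i]
      exact Finset.sum_congr rfl fun i _ => divFun_c1 _ hz
    · rw [divFun_not_c1 _ hz]
      exact Finset.sum_eq_zero fun i _ => divFun_not_c1 _ hz
  · rintro ⟨g, hg, h⟩
    refine ⟨PUnit, fun _ => genericPoint Z.left, fun _ => g, fun _ => by ring, fun _ => hg,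
      fun _ => ⟨Set.univ, isOpen_univ, trivial, Set.toFinite _⟩, fun z => ?_⟩
    rw [h z, ← hshift g z, finsum_eq_sum_of_fintype, Fintype.sum_unique]

end Field

end Groth.Agent.Lib.ClProd85
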